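import Cfsg.Agent.Helper15.S3412.Defs
import Cfsg.Agent.Helper7.AutPSL1

/-!
# S3412: definitions for the `SL₃(3)` side

`L33 = SL₃(ZMod 3)` and the 26 subgroups `sub0 : V₀ → Subgroup L33` (`TP (pt i)`: all transvections
with centre `pt i`; `TH (pt j)`: all transvections with axis `ker (pt j)`).
-/

set_option autoImplicit false

namespace Cfsg.Agent.S3412P

open Matrix Cfsg.Agent.Helper2.RootSLn Cfsg.Agent.Helper7.AutPSL

/-- `SL₃(3)` -/
abbrev L33 : Type := Matrix.SpecialLinearGroup (Fin 3) (ZMod 3)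

/-- the 26 subgroups -/
def sub0 : V₀ → Subgroup L33 := Sum.elim (fun i => TP (pt i)) (fun j => TH (pt j))

@[simp] theorem sub0_inl (i : Fin 13) : sub0 (Sum.inl i) = TP (pt i) := rfl
@[simp] theorem sub0_inr (j : Fin 13) : sub0 (Sum.inr j) = TH (pt j) := rfl

end Cfsg.Agent.S3412P
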