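import Mathlib

/-!
# S3412 (a group with the commuting graph of `PSL₃(3)` is `PSL₃(3)`): shared definitions

Driver: helper15.  Namespace `Cfsg.Agent.S3412P`.

* `IsQ A`   : `A` is a self-centralizing subgroup of order 9 all of whose non-identity elements have
              centralizer order divisible by 27.  In `SL₃(3)` these are the 26 groups of all
              transvections with a given centre / a given axis.  The property only depends on the
              commuting graph.
* `QV X`    : the type of such subgroups of `X`;  `QAdj` : distinct with a common non-identity element.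
* `IsGraphIso f` : `f` is an isomorphism of commuting graphs.
* `KerHyp X`: the two graph-theoretic hypotheses used to show that `X` acts faithfully on `QV X`.
* `pt`, `V₀`, `adj₀`, `AutΓ` : the incidence graph of `PG(2,3)` on `Fin 13 ⊕ Fin 13` and its
              automorphism group.
-/

set_option autoImplicit false

namespace Cfsg.Agent.S3412P

open Matrix

/-- self-centralizing of order 9, all non-identity elements with `27 ∣ |C(a)|` -/
def IsQ {X : Type*} [Group X] (A : Subgroup X) : Prop :=
  Nat.card A = 9 ∧ Subgroup.centralizer (A : Set X) = A ∧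
    ∀ a ∈ A, a ≠ 1 → 27 ∣ Nat.card (Subgroup.centralizer ({a} : Set X))

/-- the vertices of the derived graph -/
abbrev QV (X : Type*) [Group X] : Type _ := {A : Subgroup X // IsQ A}

/-- adjacency in the derived graph: distinct, with a common non-identity element -/
def QAdj {X : Type*} [Group X] (A B : QV X) : Prop :=
  A ≠ B ∧ ∃ a : X, a ≠ 1 ∧ a ∈ A.1 ∧ a ∈ B.1

/-- `f` is an isomorphism of commuting graphs -/
def IsGraphIso {H G : Type*} [Group H] [Group G] (f : {h : H // h ≠ 1} ≃ {g : G // g ≠ 1}) :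
    Prop :=
  ∀ x y : {h : H // h ≠ 1}, (x : H) * y = y * x ↔ (f x : G) * f y = f y * f x

/-- hypotheses for the faithfulness of the conjugation action on `QV X` -/
def KerHyp (X : Type*) [Group X] : Prop :=
  (∃ A B : QV X, ∀ a : X, a ∈ A.1 → a ∈ B.1 → a = 1) ∧
  (∀ A : QV X, ∀ a ∈ A.1, a ≠ 1 → ∃ B : QV X, ∀ b ∈ B.1, b ≠ 1 → ¬ Commute a b)

/-- the 13 points (and, as coordinate vectors of linear forms, the 13 lines) of `PG(2,3)` -/
def pt : Fin 13 → Fin 3 → ZMod 3 :=
  ![![1,0,0], ![0,1,0], ![0,0,1], ![1,1,0], ![1,2,0], ![1,0,1], ![1,0,2], ![0,1,1], ![0,1,2],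
    ![1,1,1], ![1,1,2], ![1,2,1], ![1,2,2]]

/-- point `i` lies on line `j` -/
def inc (i j : Fin 13) : Prop := pt j ⬝ᵥ pt i = 0

instance : DecidableRel inc := fun i j => by unfold inc; infer_instance

/-- vertices of the incidence graph: points `inl i`, lines `inr j` -/
abbrev V₀ : Type := Fin 13 ⊕ Fin 13

/-- incidence graph of `PG(2,3)` -/
def adj₀ (x y : V₀) : Prop :=
  Sum.elim (fun i => Sum.elim (fun _ => False) (fun j => inc i j) y)
    (fun j => Sum.elim (fun i => inc i j) (fun _ => False) y) x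

@[simp] theorem adj₀_inl_inr (i j : Fin 13) : adj₀ (Sum.inl i) (Sum.inr j) ↔ inc i j := Iff.rfl
@[simp] theorem adj₀_inr_inl (i j : Fin 13) : adj₀ (Sum.inr j) (Sum.inl i) ↔ inc i j := Iff.rfl
@[simp] theorem adj₀_inl_inl (i j : Fin 13) : adj₀ (Sum.inl i) (Sum.inl j) ↔ False := Iff.rfl
@[simp] theorem adj₀_inr_inr (i j : Fin 13) : adj₀ (Sum.inr i) (Sum.inr j) ↔ False := Iff.rfl

instance : DecidableRel adj₀ := fun x y => by
  cases x <;> cases y <;> simp only [adj₀, Sum.elim_inl, Sum.elim_inr] <;> infer_instance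

/-- automorphisms of the incidence graph -/
def AutΓ : Subgroup (Equiv.Perm V₀) where
  carrier := {σ | ∀ x y, adj₀ (σ x) (σ y) ↔ adj₀ x y}
  one_mem' := fun _ _ => Iff.rfl
  mul_mem' := by
    intro σ τ hσ hτ x y
    rw [Equiv.Perm.mul_apply, Equiv.Perm.mul_apply, hσ, hτ]
  inv_mem' := by
    intro σ hσ x y
    have := hσ (σ⁻¹ x) (σ⁻¹ y)
    rw [← Equiv.Perm.mul_apply, ← Equiv.Perm.mul_apply, mul_inv_cancel, Equiv.Perm.one_apply,
      Equiv.Perm.one_apply] at this
    exact this.symm

theorem mem_AutΓ {σ : Equiv.Perm V₀} : σ ∈ AutΓ ↔ ∀ x y, adj₀ (σ x) (σ y) ↔ adj₀ x y := Iff.rfl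

end Cfsg.Agent.S3412P
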