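import Mathlib
import Cfsg.Agent.Helper15.S3412.Defs2
import Cfsg.Agent.Helper2.PSLSimple
import Cfsg.Agent.Helper2.SLCard
import Cfsg.Agent.Helper27.SL3Invol2
import Cfsg.Agent.Helper19.S3412CONJQ
import Cfsg.Agent.Helper19.S3412KERNEL
import Cfsg.Agent.Helper20.S3412SISQ
import Cfsg.Agent.Helper14.S3412GAMMA1
import Cfsg.Agent.Helper15.S3412GAMMA2
import Cfsg.Agent.Helper13.S3412GAMMA3
import Cfsg.Agent.Helper18.S3412SKER
import Cfsg.Agent.Helper22.S3412QEQUIV
import Cfsg.Agent.Helper22.S3412QADJ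
import Cfsg.Agent.Helper26.S3412KERTRANS
import Cfsg.Agent.Helper11.S3412FINALGT
import Cfsg.Agent.Helper15.S3412AUTBOUND

/-! S3412 assembly lemmas (helper15): the embedding into `AutΓ`, the bijection `V₀ ≃ QV L33`,
and the main theorem for `SL₃(3)`. -/

set_option autoImplicit false

namespace Cfsg.Agent.S3412P

open Matrix Cfsg.Agent.Helper2.RootSLn Cfsg.Agent.Helper7.AutPSL

namespace ASM

/-- a group acting faithfully on its `QV`, identified with the incidence graph, embeds in `AutΓ` -/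
theorem exists_embedding {X : Type*} [Group X] [Finite X] (β : V₀ ≃ QV X)
    (hβ : ∀ x y : V₀, adj₀ x y ↔ QAdj (β x) (β y)) (hK : KerHyp X) :
    ∃ ρ : X →* AutΓ, Function.Injective ρ := by
  obtain ⟨c, hc⟩ := CONJQ.exists_conjQ X
  have hinj := KERNEL.injective_conjQ hK c hc
  let ρ₀ : X →* Equiv.Perm V₀ := (β.symm.permCongrHom).toMonoidHom.comp c
  have hρ₀ : ∀ x u, ρ₀ x u = β.symm (c x (β u)) := by
    intro x u
    rfl
  have hmem : ∀ x, ρ₀ x ∈ AutΓ := by
    intro x u w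
    rw [hρ₀, hρ₀, hβ, Equiv.apply_symm_apply, Equiv.apply_symm_apply, CONJQ.qadj_conj c hc, ← hβ]
  refine ⟨ρ₀.codRestrict AutΓ hmem, ?_⟩
  intro x y hxy
  apply hinj
  have h1 : ρ₀ x = ρ₀ y := congrArg Subtype.val hxy
  exact (β.symm.permCongrHom).injective h1

theorem pt_ne_zero : ∀ i : Fin 13, pt i ≠ 0 := by decide

/-- the incidence graph of `PG(2,3)` is the derived graph of `SL₃(3)` -/
theorem exists_beta : ∃ β : V₀ ≃ QV L33, ∀ x y : V₀, adj₀ x y ↔ QAdj (β x) (β y) := by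
  have hQ : ∀ x : V₀, IsQ (sub0 x) := by
    intro x
    cases x with
    | inl i => exact SISQ.isQ_TP (pt_ne_zero i)
    | inr j => exact SISQ.isQ_TH (pt_ne_zero j)
  let b : V₀ → QV L33 := fun x => ⟨sub0 x, hQ x⟩
  have hb : Function.Bijective b := by
    refine ⟨fun x y h => GAMMA1.sub0_injective (congrArg Subtype.val h), fun A => ?_⟩
    obtain ⟨x, hx⟩ := GAMMA2.sub0_surj A.1 A.2
    exact ⟨x, Subtype.ext hx⟩
  refine ⟨Equiv.ofBijective b hb, ?_⟩
  intro x y
  rw [GAMMA3.sub0_adj]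
  unfold QAdj
  rw [Equiv.ofBijective_apply, Equiv.ofBijective_apply]
  constructor
  · rintro ⟨h1, h2⟩
    exact ⟨fun h => h1 (congrArg Subtype.val h), h2⟩
  · rintro ⟨h1, h2⟩
    exact ⟨fun h => h1 (Subtype.ext h), h2⟩

/-- `SL₃(3)` has trivial centre (light copy of `Helper27.center_sl3_eq_bot`) -/
theorem center_L33 : Subgroup.center L33 = ⊥ := by
  rw [← Subgroup.card_eq_one, Cfsg.Agent.Helper2.card_center_SL 3 (by norm_num),
    Cfsg.Agent.Helper2.card_units_field, ZMod.card 3]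
  decide

/-- `SL₃(3) ≃* PSL₃(3)` -/
noncomputable def pslEquiv : L33 ≃* Matrix.ProjectiveSpecialLinearGroup (Fin 3) (ZMod 3) :=
  (QuotientGroup.quotientBot.symm).trans (QuotientGroup.quotientMulEquivOfEq center_L33.symm)

theorem isSimpleGroup_L33 : IsSimpleGroup L33 := by
  have : IsSimpleGroup (Matrix.ProjectiveSpecialLinearGroup (Fin 3) (ZMod 3)) :=
    Cfsg.Agent.Helper2.PSL_isSimpleGroup (by simp)
  exact pslEquiv.isSimpleGroup

theorem card_eq_succ (K : Type*) [Group K] [Finite K] :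
    Nat.card K = Nat.card {k : K // k ≠ 1} + 1 := by
  classical
  have : Fintype K := Fintype.ofFinite K
  rw [Nat.card_eq_fintype_card, Nat.card_eq_fintype_card, Fintype.card_subtype_compl,
    Fintype.card_subtype_eq]
  have : 0 < Fintype.card K := Fintype.card_pos
  omega

theorem card_eq_of_equiv {H G : Type*} [Group H] [Group G] [Finite H] [Finite G]
    (f : {h : H // h ≠ 1} ≃ {g : G // g ≠ 1}) : Nat.card H = Nat.card G := by
  rw [card_eq_succ H, card_eq_succ G, Nat.card_congr f]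

/-- the main theorem, for `SL₃(3)` -/
theorem main_L33 {H : Type*} [Group H] [Finite H]
    (f : {h : H // h ≠ 1} ≃ {g : L33 // g ≠ 1}) (hf : IsGraphIso f) : Nonempty (H ≃* L33) := by
  have hF : Fintype.card (ZMod 3) = 3 := ZMod.card 3
  obtain ⟨βS, hβS⟩ := exists_beta
  obtain ⟨ρS, hρS⟩ := exists_embedding βS hβS SKER.kerHyp_L33
  obtain ⟨e, he⟩ := QEQUIV.exists_qequiv f hf
  have hKH := KERTRANS.kerHyp_of_iso f hf e he SKER.kerHyp_L33
  let βH : V₀ ≃ QV H := βS.trans e.symm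
  have hβH : ∀ x y : V₀, adj₀ x y ↔ QAdj (βH x) (βH y) := by
    intro x y
    rw [hβS, ← QADJ.qadj_iff f e he (βH x) (βH y)]
    simp only [βH, Equiv.trans_apply, Equiv.apply_symm_apply]
  obtain ⟨ρH, hρH⟩ := exists_embedding βH hβH hKH
  have hcS : Nat.card L33 = 5616 := Cfsg.Agent.Helper27.card_sl3_three hF
  have hcH : Nat.card H = Nat.card L33 := card_eq_of_equiv f
  exact FINALGT.iso_of_embeddings ρH ρS hρH hρS hcH
    (by rw [hcS]; exact AUTBOUND.card_AutΓ_le) isSimpleGroup_L33 (by rw [hcS]; norm_num)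

end ASM

end Cfsg.Agent.S3412P
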